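import Cfsg.Agent.H128.EA.Eleven

/-!
# S3499, V-ALT: `EA10` from the row `NATp` (task 6229) (helper83)

* `alt_zero` : in odd characteristic, an invariant alternating form vanishes on the natural module;
* `fixQ` : so the core fixes a non-degenerate quadratic form;
* `ea10_of : NATp → EA10`.
-/

set_option autoImplicit false

namespace Cfsg.Agent.H83.EA

open Subgroup Cfsg Cfsg.Agent.H284 Cfsg.Agent.H419.EP Cfsg.Agent.H614.AMod Cfsg.Agent.H964.AltMod
open Cfsg.Agent.H545.EA Cfsg.Agent.H915.LD
open Equiv Equiv.Perm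
open scoped MatrixGroups

/-- the statement of task 6229 -/
def NATp : Prop := ∀ {Q : Type} [Group Q] [Finite Q], IsSimpleGroup Q → ∀ {A : Subgroup Q} {Γ : Subgroup (MulAut Q)},
    EPT A Γ → ∀ {F : Type} [Field F] [Fintype F] {ι : Type} [Fintype ι] [DecidableEq ι] {Qf : (ι → F) → F}
    (m : Model Q (Cfsg.Geo.omegaGL Qf)), Cfsg.Geo.IsNondegenerateQuadraticForm Qf → ∀ {P : Subgroup (GL ι F)},
    Cfsg.Geo.IsResidualCore (m.hat A) P → ∀ (p : ℕ) [Fact p.Prime] [CharP F p], Nat.card F = p → p ≠ 2 →
    ∀ {c : ℕ}, 14 ≤ c → ∀ (φ : P ≃* alternatingGroup (Fin c)) {w : Fin c → Fin c → (ι → F)}, NatM (rep φ) w → False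

section

variable {α : Type*} [Fintype α] [DecidableEq α] {ι : Type} [Fintype ι] [DecidableEq ι] {F : Type} [Field F]
    {P : Subgroup (GL ι F)} {φ : P ≃* alternatingGroup α} {w : α → α → (ι → F)}

theorem alt_zero (h8 : 8 ≤ Fintype.card α) (h2 : (2 : F) ≠ 0) (N : NatM (rep φ) w) {f : (ι → F) → (ι → F) → F}
    (hf : Cfsg.Geo.IsSymplecticForm f) (hfix : Cfsg.Geo.FixesForm (Cfsg.Geo.matrixSet P) f) (i j k l : α) :
    f (w i j) (w k l) = 0 := by
  have hb := hf.bilinear
  have inv : ∀ (g : alternatingGroup α) (x y : ι → F), f (rep φ g x) (rep φ g y) = f x y := by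
    intro g x y
    rw [rep_apply, rep_apply]
    exact hfix _ ⟨(φ.symm g : GL ι F), (φ.symm g).2, rfl⟩ x y
  have hz : ∀ x, f x 0 = 0 := fun x => by
    have := hb.smul_right 0 x 0
    rwa [zero_mul, zero_smul] at this
  have hz' : ∀ x, f 0 x = 0 := fun x => by
    have := hb.smul_left 0 0 x
    rwa [zero_mul, zero_smul] at this
  have hneg : ∀ x y, f x (-y) = - f x y := fun x y => by
    have := hb.smul_right (-1) x y
    rwa [neg_one_mul, neg_one_smul] at this
  have key : ∀ i j k : α, f (w i j) (w i k) = 0 := by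
    intro i j k
    by_cases hij : i = j
    · rw [hij, N.self, hz']
    by_cases hik : i = k
    · rw [hik, N.self, hz]
    by_cases hjk : j = k
    · rw [hjk, hf.alternating]
    obtain ⟨m, hm⟩ := exists_notMem (l := [i, j, k]) (by simp only [List.length_cons, List.length_nil]; omega)
    obtain ⟨n, hn⟩ := exists_notMem (l := [i, j, k, m]) (by simp only [List.length_cons, List.length_nil]; omega)
    simp only [List.mem_cons, List.not_mem_nil, or_false, not_or] at hm hn
    let g : alternatingGroup α := ⟨swap j k * swap m n, by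
      rw [mem_alternatingGroup, Perm.sign_mul, sign_swap hjk, sign_swap (Ne.symm hn.2.2.2)]; decide⟩
    have gi : (g : Perm α) i = i := by
      change swap j k (swap m n i) = i
      rw [swap_apply_of_ne_of_ne (Ne.symm hm.1) (Ne.symm hn.1), swap_apply_of_ne_of_ne hij hik]
    have gj : (g : Perm α) j = k := by
      change swap j k (swap m n j) = k
      rw [swap_apply_of_ne_of_ne (Ne.symm hm.2.1) (Ne.symm hn.2.1), swap_apply_left]
    have gk : (g : Perm α) k = j := by
      change swap j k (swap m n k) = j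
      rw [swap_apply_of_ne_of_ne (Ne.symm hm.2.2) (Ne.symm hn.2.2.1), swap_apply_right]
    have h1 := inv g (w i j) (w i k)
    rw [N.act, N.act, gi, gj, gk, hf.skew] at h1
    have h3 : (2 : F) * f (w i j) (w i k) = 0 := by linear_combination -h1
    exact (mul_eq_zero.1 h3).resolve_left h2
  have h4 : w k l = -(w i k) + w i l := by
    rw [← N.tri k i l, N.anti i k]
  rw [h4, hb.add_right, hneg, key, key, neg_zero, add_zero]

/-- **The core fixes a non-degenerate quadratic form.** -/
theorem fixQ [Fintype F] (hC : Core P) (h8 : 8 ≤ Fintype.card α) (h2 : (2 : F) ≠ 0) (N : NatM (rep φ) w) : FixQ P := by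
  rcases hC.forms_of_sd (sd hC h8 N) with h | ⟨f, hf, hfix⟩
  · exact h
  exfalso
  have hb := hf.bilinear
  have h0 := alt_zero h8 h2 N hf hfix
  obtain ⟨i, j, hij⟩ := N.ne
  have hz : ∀ x, f x 0 = 0 := fun x => by
    have := hb.smul_right 0 x 0
    rwa [zero_mul, zero_smul] at this
  have hall : ∀ y, f (w i j) y = 0 := by
    intro y
    have hy : y ∈ Submodule.span F (Set.range fun q : α × α => w q.1 q.2) := by
      rw [N.span]; trivial
    induction hy using Submodule.span_induction with
    | mem x hx => obtain ⟨q, rfl⟩ := hx; exact h0 _ _ _ _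
    | zero => exact hz _
    | add x y _ _ hx hy => rw [hb.add_right, hx, hy, add_zero]
    | smul a x _ hx => rw [hb.smul_right, hx, mul_zero]
  obtain ⟨-, y, hy⟩ := hf.nondegenerate _ hij
  exact hy (hall y)

end

/-- **`EA10` from `NATp`** -/
theorem ea10_of (H : NATp) : EA10 := by
  intro Q _ _ A Γ ι _ _ F _ _ S P b c hc h2 f w hw
  obtain ⟨p, hp⟩ := CharP.exists F
  have := hp
  have : Fact p.Prime := ⟨(CharP.char_is_prime_or_zero F p).resolve_right (CharP.char_ne_zero_of_finite F p)⟩
  have hC := core_of_residual b.core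
  have hQ' : FixQ P := fixQ hC (by rw [Fintype.card_fin]; omega) h2 hw
  obtain ⟨hcard, Qf, hQ, rfl⟩ := H128.EA.red b (by omega) f hw p (Or.inr hQ')
  refine H b.simple b.ept b.m hQ b.core p (by rw [Nat.card_eq_fintype_card, hcard]) ?_ hc f hw
  rintro rfl
  exact h2 (by have := CharP.cast_eq_zero F 2; exact_mod_cast this)

end Cfsg.Agent.H83.EA
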